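import Mathlib.CategoryTheory.Sites.Point.Comap

/-!
# The comparison map for fibres of direct images (helper22)

Let `F : C ⥤ D` be a continuous, representably flat, cover-preserving functor of sites, `Φ` a point
of `D` and `Φ' = Φ.comap F` the induced point of `C`. For a presheaf `Q` on `D` there is a
canonical comparison `cmp : Φ'.presheafFiber (F.op ⋙ Q) ⟶ Φ.presheafFiber Q`. If it is an
isomorphism for a sheaf `G`, then the counit `F^* F_* G ⟶ G` induces an isomorphism on fibres at
`Φ`.
-/

set_option autoImplicit false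

universe w v

namespace Groth.Agent.Lib.Helper22.PointComap

open CategoryTheory Limits GrothendieckTopology Opposite

variable {C D : Type*} [Category C] [Category D]
  {K : GrothendieckTopology D}
  (Φ : Point.{w} K) (F : C ⥤ D) [RepresentablyFlat F] {J : GrothendieckTopology C}
  (hF : CoverPreserving J K F)
  [InitiallySmall (F ⋙ Φ.fiber).Elements]

variable {A : Type*} [Category.{v} A] [HasColimitsOfSize.{w, w} A]

/-- The canonical comparison map from the fibre of `F.op ⋙ Q` at `Φ.comap F` to the fibre of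
`Q` at `Φ`. -/
noncomputable def cmp (Q : Dᵒᵖ ⥤ A) :
    (Φ.comap F hF).presheafFiber.obj (F.op ⋙ Q) ⟶ Φ.presheafFiber.obj Q :=
  (Φ.comap F hF).presheafFiberDesc (P := F.op ⋙ Q)
    (fun U u => Φ.toPresheafFiber (F.obj U) u Q)
    (fun _ _ f u => Φ.toPresheafFiber_w (F.map f) u Q)

@[reassoc (attr := simp)]
lemma toPresheafFiber_cmp (Q : Dᵒᵖ ⥤ A) (U : C) (u : Φ.fiber.obj (F.obj U)) :
    (Φ.comap F hF).toPresheafFiber U u (F.op ⋙ Q) ≫ cmp Φ F hF Q =
      Φ.toPresheafFiber (F.obj U) u Q :=
  (Φ.comap F hF).toPresheafFiber_presheafFiberDesc _ _ U u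

section Sheaf

variable [HasProducts.{w} A] [Functor.IsContinuous F J K]

/-- Direct image of a morphism into a skyscraper sheaf, in terms of the comparison map. -/
lemma pushforward_map_eq (G : Sheaf K A) (M : A) (ψ : G ⟶ Φ.skyscraperSheaf M) :
    (F.sheafPushforwardContinuous A J K).map ψ =
      ((Φ.comap F hF).skyscraperSheafAdjunction.homEquiv
        ((F.sheafPushforwardContinuous A J K).obj G) M)
        (cmp Φ F hF G.obj ≫ (Φ.skyscraperSheafAdjunction.homEquiv G M).symm ψ) := by
  apply Sheaf.hom_ext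
  ext U : 2
  apply Pi.hom_ext
  intro u
  have h1 := (Φ.comap F hF).skyscraperSheafAdjunction_homEquiv_apply_hom
    (F := (F.sheafPushforwardContinuous A J K).obj G) (M := M)
    (cmp Φ F hF G.obj ≫ (Φ.skyscraperSheafAdjunction.homEquiv G M).symm ψ)
  have h2 := Φ.skyscraperSheafAdjunction_homEquiv_symm_apply (F := G) (M := M) ψ
  refine Eq.trans ?_ (congrArg (fun φ => φ.app U ≫ Pi.π _ u) h1).symm
  refine Eq.trans ?_ ((Φ.comap F hF).skyscraperPresheafHomEquiv_app_π _ U.unop u).symm
  have h3 : Φ.toPresheafFiber (F.obj U.unop) u G.obj ≫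
      (Φ.skyscraperSheafAdjunction.homEquiv G M).symm ψ =
      ψ.hom.app (op (F.obj U.unop)) ≫ Pi.π _ u := by
    exact (congrArg (Φ.toPresheafFiber (F.obj U.unop) u G.obj ≫ ·) h2).trans
      (Φ.toPresheafFiber_skyscraperPresheafHomEquiv_symm ψ.hom (F.obj U.unop) u)
  exact ((Category.assoc _ _ _).symm.trans
    ((congrArg (· ≫ (Φ.skyscraperSheafAdjunction.homEquiv G M).symm ψ)
      (toPresheafFiber_cmp Φ F hF G.obj U.unop u)).trans h3)).symm

/-- If the comparison map is an isomorphism, then `F_*` is bijective on morphisms into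
skyscraper sheaves at `Φ`. -/
lemma bijective_pushforward_map (G : Sheaf K A) [IsIso (cmp Φ F hF G.obj)] (M : A) :
    Function.Bijective (fun ψ : G ⟶ Φ.skyscraperSheaf M =>
      (F.sheafPushforwardContinuous A J K).map ψ) := by
  have h : (fun ψ : G ⟶ Φ.skyscraperSheaf M => (F.sheafPushforwardContinuous A J K).map ψ) =
      fun ψ => ((Φ.comap F hF).skyscraperSheafAdjunction.homEquiv
        ((F.sheafPushforwardContinuous A J K).obj G) M)
        (cmp Φ F hF G.obj ≫ (Φ.skyscraperSheafAdjunction.homEquiv G M).symm ψ) :=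
    funext (pushforward_map_eq Φ F hF G M)
  rw [h]
  refine (Equiv.bijective _).comp (Function.Bijective.comp ?_ (Equiv.bijective _))
  exact ((isIso_iff_coyoneda_map_bijective (cmp Φ F hF G.obj)).1 inferInstance) M

variable [(F.sheafPushforwardContinuous A J K).IsRightAdjoint]

/-- If the comparison map is an isomorphism, the counit `F^* F_* G ⟶ G` is an isomorphism on
fibres at `Φ`. -/
theorem isIso_sheafFiber_map_counit (G : Sheaf K A) [IsIso (cmp Φ F hF G.obj)] :
    IsIso (Φ.sheafFiber.map ((F.sheafAdjunctionContinuous A J K).counit.app G)) := by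
  rw [isIso_iff_coyoneda_map_bijective]
  intro M
  let adj := F.sheafAdjunctionContinuous A J K
  let R := F.sheafPushforwardContinuous A J K
  let L := F.sheafPullback A J K
  let e₁ := Φ.skyscraperSheafAdjunction.homEquiv G M
  let e₂ := Φ.skyscraperSheafAdjunction.homEquiv (L.obj (R.obj G)) M
  let e₃ := adj.homEquiv (R.obj G) (Φ.skyscraperSheaf M)
  have key : ∀ θ : Φ.sheafFiber.obj G ⟶ M,
      e₃ (e₂ (Φ.sheafFiber.map (adj.counit.app G) ≫ θ)) = R.map (e₁ θ) := by
    intro θ
    have h1 : e₂ (Φ.sheafFiber.map (adj.counit.app G) ≫ θ) = adj.counit.app G ≫ e₁ θ :=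
      Φ.skyscraperSheafAdjunction.homEquiv_naturality_left _ _
    rw [h1]
    change adj.homEquiv _ _ (adj.counit.app G ≫ e₁ θ) = _
    rw [Adjunction.homEquiv_unit, Functor.map_comp, ← Category.assoc]
    have h2 : adj.unit.app (R.obj G) ≫ R.map (adj.counit.app G) = 𝟙 _ :=
      adj.right_triangle_components G
    exact (congrArg (· ≫ R.map (e₁ θ)) h2).trans (Category.id_comp _)
  have hb : Function.Bijective (fun θ : Φ.sheafFiber.obj G ⟶ M =>
      e₃ (e₂ (Φ.sheafFiber.map (adj.counit.app G) ≫ θ))) := by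
    have : (fun θ : Φ.sheafFiber.obj G ⟶ M =>
        e₃ (e₂ (Φ.sheafFiber.map (adj.counit.app G) ≫ θ))) = fun θ => R.map (e₁ θ) :=
      funext key
    rw [this]
    exact (bijective_pushforward_map Φ F hF G M).comp e₁.bijective
  have hb2 : Function.Bijective (fun θ : Φ.sheafFiber.obj G ⟶ M =>
      e₂ (Φ.sheafFiber.map (adj.counit.app G) ≫ θ)) :=
    (Function.Bijective.of_comp_iff' e₃.bijective _).1 hb
  exact (Function.Bijective.of_comp_iff' e₂.bijective _).1 hb2

end Sheaf

end Groth.Agent.Lib.Helper22.PointComap
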