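import Groth.Agent.Lib.Helper22.PointComap.Basic

/-!
# The fibre comparison isomorphism in terms of the unit (helper22)

`(Φ.sheafFiberComapIso F hF A).hom.app X = Φ'.sheafFiber.map (unit X) ≫ cmp`, and its effect on
germs.
-/

set_option autoImplicit false

universe w v

namespace Groth.Agent.Lib.Helper22.PointComap

open CategoryTheory Limits GrothendieckTopology Opposite

variable {C D : Type*} [Category C] [Category D]
  {K : GrothendieckTopology D}
  (Φ : Point.{w} K) (F : C ⥤ D) [RepresentablyFlat F] {J : GrothendieckTopology C}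
  (hF : CoverPreserving J K F)
  [InitiallySmall (F ⋙ Φ.fiber).Elements]

variable {A : Type*} [Category.{v} A] [HasColimitsOfSize.{w, w} A]
  [HasProducts.{w} A] [Functor.IsContinuous F J K]
  [(F.sheafPushforwardContinuous A J K).IsRightAdjoint]

lemma sheafFiberComapIso_hom_app_eq (X : Sheaf J A) :
    (Φ.sheafFiberComapIso F hF A).hom.app X =
      (Φ.comap F hF).sheafFiber.map ((F.sheafAdjunctionContinuous A J K).unit.app X) ≫
        cmp Φ F hF ((F.sheafPullback A J K).obj X).obj := by
  refine (Point.sheafFiberComapIso_hom_app Φ F hF A X).trans ?_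
  refine congrArg (_ ≫ ·) ?_
  let Q := (F.sheafPullback A J K).obj X
  let c : (Φ.comap F hF).sheafFiber.obj ((F.sheafPushforwardContinuous A J K).obj Q) ⟶
    Φ.sheafFiber.obj Q := cmp Φ F hF Q.obj
  have h : (F.sheafPushforwardContinuous A J K).map (Φ.skyscraperSheafAdjunction.unit.app Q) =
      ((Φ.comap F hF).skyscraperSheafAdjunction.homEquiv
        ((F.sheafPushforwardContinuous A J K).obj Q) (Φ.sheafFiber.obj Q))
        (c ≫ (Φ.skyscraperSheafAdjunction.homEquiv Q (Φ.sheafFiber.obj Q)).symm
          (Φ.skyscraperSheafAdjunction.unit.app Q)) :=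
    pushforward_map_eq Φ F hF Q (Φ.sheafFiber.obj Q) (Φ.skyscraperSheafAdjunction.unit.app Q)
  have h1 : (Φ.skyscraperSheafAdjunction.homEquiv Q (Φ.sheafFiber.obj Q)).symm
      (Φ.skyscraperSheafAdjunction.unit.app Q) = 𝟙 _ :=
    (Adjunction.homEquiv_counit _ _ _ _).trans
      (Φ.skyscraperSheafAdjunction.left_triangle_components Q)
  have h' : (F.sheafPushforwardContinuous A J K).map (Φ.skyscraperSheafAdjunction.unit.app Q) =
      ((Φ.comap F hF).skyscraperSheafAdjunction.homEquiv
        ((F.sheafPushforwardContinuous A J K).obj Q) (Φ.sheafFiber.obj Q)) c :=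
    h.trans (congrArg _ ((congrArg (c ≫ ·) h1).trans (Category.comp_id c)))
  have h2 : (Φ.comap F hF).sheafFiber.map
      ((Φ.skyscraperSheafFunctorCompSheafPushforwardContinuous F hF A).hom.app
        (Φ.sheafFiber.obj Q)) = 𝟙 _ :=
    CategoryTheory.Functor.map_id _ _
  have h3 : (Φ.comap F hF).sheafFiber.map
      (((Φ.comap F hF).skyscraperSheafAdjunction.homEquiv
        ((F.sheafPushforwardContinuous A J K).obj Q) (Φ.sheafFiber.obj Q)) c) ≫
        (Φ.comap F hF).skyscraperSheafAdjunction.counit.app (Φ.sheafFiber.obj Q) = c :=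
    ((Adjunction.homEquiv_counit _ _ _ _).symm.trans
      (((Φ.comap F hF).skyscraperSheafAdjunction.homEquiv
        ((F.sheafPushforwardContinuous A J K).obj Q) (Φ.sheafFiber.obj Q)).symm_apply_apply c))
  calc _ = (Φ.comap F hF).sheafFiber.map
        (((Φ.comap F hF).skyscraperSheafAdjunction.homEquiv
          ((F.sheafPushforwardContinuous A J K).obj Q) (Φ.sheafFiber.obj Q)) c) ≫
        𝟙 _ ≫ (Φ.comap F hF).skyscraperSheafAdjunction.counit.app (Φ.sheafFiber.obj Q) :=
        congrArg₂ (fun a b => (Φ.comap F hF).sheafFiber.map a ≫ b ≫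
          (Φ.comap F hF).skyscraperSheafAdjunction.counit.app (Φ.sheafFiber.obj Q)) h' h2
    _ = _ := (congrArg (_ ≫ ·) (Category.id_comp _)).trans h3

/-- The effect of the comparison isomorphism on germs. -/
lemma toPresheafFiber_sheafFiberComapIso_hom (X : Sheaf J A) (U : C) (u : Φ.fiber.obj (F.obj U)) :
    (Φ.comap F hF).toPresheafFiber U u X.obj ≫ (Φ.sheafFiberComapIso F hF A).hom.app X =
      ((F.sheafAdjunctionContinuous A J K).unit.app X).hom.app (op U) ≫
        Φ.toPresheafFiber (F.obj U) u ((F.sheafPullback A J K).obj X).obj := by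
  refine (congrArg (_ ≫ ·) (sheafFiberComapIso_hom_app_eq Φ F hF X)).trans ?_
  refine (Category.assoc _ _ _).symm.trans ?_
  have h1 := (Φ.comap F hF).toPresheafFiber_naturality
    ((F.sheafAdjunctionContinuous A J K).unit.app X).hom U u
  have h2 := toPresheafFiber_cmp Φ F hF ((F.sheafPullback A J K).obj X).obj U u
  exact ((congrArg (· ≫ cmp Φ F hF ((F.sheafPullback A J K).obj X).obj) h1).trans
    (Category.assoc _ _ _)).trans (congrArg (_ ≫ ·) h2)

end Groth.Agent.Lib.Helper22.PointComap
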